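import Groth.Agent.Coherent.Serre.RightMul
import Groth.Agent.EulerLib.SupportVanishing
import Groth.Agent.AmpleLib.Generated

/-!
# Global generation and vanishing of `H¹` on schemes of cohomological dimension one
-/

set_option autoImplicit false
set_option backward.isDefEq.respectTransparency.types false

universe u

open CategoryTheory CategoryTheory.Limits AlgebraicGeometry Opposite TopologicalSpace
open Groth.Agent.Coherent Groth.Agent.PicLib Groth.Agent.AmpleLib Groth.Agent.EulerLib

namespace Groth.Agent.Lipman24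

variable {X : Scheme.{u}}

/-- Every point lies in the locus of generation of some global section. -/
def Gl (L : X.Modules) : Prop := ∀ x : X, ∃ s : Γ(L, ⊤), x ∈ glocus L s

theorem Gl.of_iso {L M : X.Modules} (e : L ≅ M) (h : Gl L) : Gl M := fun x => by
  obtain ⟨s, hs⟩ := h x
  exact ⟨e.hom.app ⊤ s, by rwa [glocus_map_iso]⟩

theorem Gl.pullback {Z : Scheme.{u}} (σ : Z ⟶ X) {L : X.Modules} (hL : PicF.IsInvertible L)
    (h : Gl L) : Gl ((Scheme.Modules.pullback σ).obj L) := fun z => by
  obtain ⟨s, hs⟩ := h (σ z)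
  exact ⟨pullSec σ s, by rw [glocus_pullSec σ hL]; exact hs⟩

theorem Gl.globallyGenerated {L : X.Modules} (hL : PicF.IsInvertible L) (h : Gl L) :
    Curv2.IsGloballyGenerated L := globallyGenerated_of_glocus hL h

/-- It is enough to look at closed points. -/
theorem Gl.of_closedPoints [CompactSpace X] {L : X.Modules}
    (h : ∀ P : X, IsClosed ({P} : Set X) → ∃ s : Γ(L, ⊤), P ∈ glocus L s) : Gl L := fun x => by
  obtain ⟨P, hPx, hP⟩ := IsClosed.exists_closed_singleton (isClosed_closure (s := ({x} : Set X)))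
    ⟨x, subset_closure rfl⟩
  obtain ⟨s, hs⟩ := h P hP
  exact ⟨s, (specializes_iff_mem_closure.2 hPx).mem_open (glocus L s).2 hs⟩

theorem Gl.exists_finset [CompactSpace X] {L : X.Modules} (h : Gl L) :
    ∃ S : Finset Γ(L, ⊤), ∀ x : X, ∃ s ∈ S, x ∈ glocus L s := by
  classical
  choose s hs using h
  obtain ⟨T, hT⟩ := isCompact_univ.elim_finite_subcover (fun x : X => (glocus L (s x) : Set X))
    (fun x => (glocus L (s x)).2) (fun x _ => Set.mem_iUnion.2 ⟨x, hs x⟩)
  refine ⟨T.image s, fun x => ?_⟩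
  obtain ⟨y, hy, hxy⟩ := Set.mem_iUnion₂.1 (hT (Set.mem_univ x))
  exact ⟨s y, Finset.mem_image_of_mem s hy, hxy⟩

variable (X) in
/-- Vanishing of second cohomology of all quasi-coherent modules. -/
def NoH2 : Prop := ∀ M : X.Modules, Coh.IsQCoh M → Subsingleton (Coh.HH X M 2)

theorem subsingleton_HH_X₃ {S : ShortComplex X.Modules} (hS : S.ShortExact) (q : ℕ)
    (h₂ : Subsingleton (Coh.HH X S.X₂ q)) (h₁ : Subsingleton (Coh.HH X S.X₁ (q + 1))) :
    Subsingleton (Coh.HH X S.X₃ q) := by
  rw [subsingleton_HH_iff] at *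
  refine subsingleton_of_forall_eq 0 fun x => ?_
  obtain ⟨y, rfl⟩ := (exact_postA_deltaA (RingHom.id Γ(X, ⊤)) hS ⊤ q x).1 (Subsingleton.elim _ _)
  rw [Subsingleton.elim y 0, map_zero]

theorem surjective_app_top {S : ShortComplex X.Modules} (hS : S.ShortExact)
    (h₁ : Subsingleton (Coh.HH X S.X₁ 1)) : Function.Surjective (S.g.app ⊤) := fun x => by
  rw [subsingleton_HH_iff] at h₁
  let φ := RingHom.id Γ(X, ⊤)
  obtain ⟨y, hy⟩ := (exact_postA_deltaA φ hS ⊤ 0 ((secA φ S.X₃).symm x)).1 (Subsingleton.elim _ _)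
  refine ⟨secA φ S.X₂ y, ?_⟩
  rw [← LinearEquiv.apply_symm_apply (secA φ S.X₃) x, ← hy]
  exact (secA_natural φ S.g y).symm

theorem subsingleton_H1_of_epi (hv : NoH2 X) {F G : X.Modules} (hF : Coh.IsQCoh F) (hG : Coh.IsQCoh G)
    (π : F ⟶ G) [Epi π] (h : Subsingleton (Coh.HH X F 1)) : Subsingleton (Coh.HH X G 1) := by
  haveI := hF
  haveI := hG
  let S : ShortComplex X.Modules := ShortComplex.mk (kernel.ι π) π (kernel.condition π)
  have hS : S.ShortExact := { exact := ShortComplex.exact_kernel π }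
  exact subsingleton_HH_X₃ hS 1 h (hv _ (isQCoh_kernel π))

/-- A module that is jointly covered by modules without `H¹` has no `H¹`. -/
theorem subsingleton_H1_of_jointlyEpi (hv : NoH2 X) {F : X.Modules} (hF : Coh.IsQCoh F)
    (h : Subsingleton (Coh.HH X F 1)) {ι : Type*} (T : Finset ι) : ∀ {G : X.Modules}, Coh.IsQCoh G →
      ∀ φ : ι → (F ⟶ G), (∀ {Q : X.Modules} (π : G ⟶ Q), (∀ i ∈ T, φ i ≫ π = 0) → π = 0) →
        Subsingleton (Coh.HH X G 1) := by
  classical
  induction T using Finset.induction with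
  | empty =>
    intro G _ φ hj
    refine subsingleton_HH_of_isZero ((IsZero.iff_id_eq_zero G).2 (hj (𝟙 G) fun i hi => ?_)) 1
    exact absurd hi (Finset.notMem_empty i)
  | @insert a T _ ih =>
    intro G hG φ hj
    haveI := hF
    haveI := hG
    let π := cokernel.π (φ a)
    haveI hQ : Coh.IsQCoh (cokernel (φ a)) := isQCoh_cokernel (φ a)
    have h3 := ih hQ (fun i => φ i ≫ π) fun {Q} θ hθ => by
      refine (cancel_epi π).1 (Eq.trans ?_ comp_zero.symm)
      refine hj (π ≫ θ) fun i hi => ?_
      rcases Finset.mem_insert.1 hi with rfl | hi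
      · rw [← Category.assoc, cokernel.condition, zero_comp]
      · rw [← Category.assoc]; exact hθ i hi
    let K := kernel π
    haveI hK : Coh.IsQCoh K := isQCoh_kernel π
    let p : F ⟶ K := kernel.lift π (φ a) (cokernel.condition _)
    haveI : Epi p := by
      have := (ShortComplex.exact_of_g_is_cokernel (ShortComplex.mk (φ a) π (cokernel.condition _))
        (cokernelIsCokernel _))
      exact this.epi_kernelLift
    let S : ShortComplex X.Modules := ShortComplex.mk (kernel.ι π) π (kernel.condition π)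
    have hS : S.ShortExact := { exact := ShortComplex.exact_kernel π }
    exact subsingleton_HH_X₂ hS 1 (subsingleton_H1_of_epi hv hF hK p h) h3

/-- Tensoring with a globally generated invertible module preserves the vanishing of `H¹`. -/
theorem Gl.subsingleton_H1_tensor [CompactSpace X] (hv : NoH2 X) {L : X.Modules}
    (hL : PicF.IsInvertible L) (hg : Gl L) {F : X.Modules} (hF : Coh.IsQCoh F)
    (h : Subsingleton (Coh.HH X F 1)) : Subsingleton (Coh.HH X (CohB1.tensorMod F L) 1) := by
  obtain ⟨T, hT⟩ := hg.exists_finset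
  haveI := hF
  refine subsingleton_H1_of_jointlyEpi hv hF h T (isQCoh_tensor_invertible F hL)
    (fun s => Serre.rightMul F s) fun {Q} π hπ => AmpleLib.hom_ext fun U a b => ?_
  show π.app U (tmul a b) = 0
  refine sec_ext Q _ _ fun y hy => ?_
  obtain ⟨s, hs, hys⟩ := hT y
  have hW : U ⊓ glocus L s ≤ U := inf_le_left
  refine ⟨U ⊓ glocus L s, hW, ⟨hy, hys⟩, ?_⟩
  rw [← app_resM, resM_tmul, map_zero]
  obtain ⟨r, hr⟩ := (isGen_glocus s (U ⊓ glocus L s) inf_le_right).2 (resM L hW b)
  beta_reduce at hr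
  rw [resM_resM] at hr
  rw [← hr, tmul_smul_right, Scheme.Modules.Hom.app_smul]
  have h0 : π.app (U ⊓ glocus L s) ((Serre.rightMul F s).app _ (resM F hW a)) = 0 :=
    congrArg (fun θ : F ⟶ Q => θ.app (U ⊓ glocus L s) (resM F hW a)) (hπ s hs)
  rw [Serre.rightMul_app] at h0
  rw [h0, smul_zero]

theorem Gl.subsingleton_H1 [CompactSpace X] (hv : NoH2 X) {L : X.Modules}
    (hL : PicF.IsInvertible L) (hg : Gl L) (h : Subsingleton (Coh.HH X (Coh.structureModule X) 1)) :
    Subsingleton (Coh.HH X L 1) := by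
  haveI : Coh.IsQCoh (Coh.structureModule X) := isQCoh_structureModule (X := X)
  have hLq : Coh.IsQCoh L := isQCoh_of_isInvertible hL
  haveI : Epi (unitTensorIso L).hom := inferInstance
  exact subsingleton_H1_of_epi hv (isQCoh_tensor_invertible _ hL) hLq (unitTensorIso L).hom
    (hg.subsingleton_H1_tensor hv hL inferInstance h)

end Groth.Agent.Lipman24
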