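import Groth.Agent.Clifford24.Lipman.GG
import Groth.Agent.Coherent.ProjSpaceFinite
import Groth.Prelude.Def_SecTwist

/-!
# Castelnuovo's lemma for a globally generated invertible module
-/

set_option autoImplicit false
set_option backward.isDefEq.respectTransparency.types false

universe u

open CategoryTheory CategoryTheory.Limits AlgebraicGeometry Opposite TopologicalSpace
open Groth.Agent.Coherent Groth.Agent.PicLib Groth.Agent.AmpleLib Groth.Agent.EulerLib

namespace Groth.Agent.Lipman24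

variable {X : Scheme.{u}}

attribute [local instance] hasFiniteBiproducts

/-- If `H¹(G) = 0` then `Γ(G ⊗ L) ⊗ Γ(L) → Γ(G ⊗ L ⊗ L)` is surjective, `L` being globally generated. -/
theorem Gl.exists_sum_tmul [CompactSpace X] (hv : NoH2 X) {L : X.Modules} (hL : PicF.IsInvertible L)
    (hg : Gl L) {G : X.Modules} (hG : Coh.IsQCoh G) (h : Subsingleton (Coh.HH X G 1))
    (z : Γ(CohB1.tensorMod (CohB1.tensorMod G L) L, ⊤)) :
    ∃ (n : ℕ) (s : Fin n → Γ(L, ⊤)) (w : Fin n → Γ(CohB1.tensorMod G L, ⊤)), z = ∑ i, tmul (w i) (s i) := by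
  classical
  obtain ⟨T, hT⟩ := hg.exists_finset
  let n := T.card
  let s : Fin n → Γ(L, ⊤) := fun i => (T.equivFin.symm i).1
  have hs : ∀ x : X, ∃ i, x ∈ glocus L (s i) := fun x => by
    obtain ⟨t, ht, hxt⟩ := hT x
    exact ⟨T.equivFin ⟨t, ht⟩, by simpa [s] using hxt⟩
  let F := CohB1.tensorMod G L
  haveI := hG
  haveI hF : Coh.IsQCoh F := isQCoh_tensor_invertible G hL
  haveI hFL : Coh.IsQCoh (CohB1.tensorMod F L) := isQCoh_tensor_invertible F hL
  let P : X.Modules := ⨁ fun _ : Fin n => F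
  haveI hP : Coh.IsQCoh P := isQCoh_biproduct _ fun _ => hF
  let ψ : P ⟶ CohB1.tensorMod F L := biproduct.desc fun i => Serre.rightMul F (s i)
  let ι' : Fin n → (F ⟶ P) := fun i => biproduct.ι (fun _ : Fin n => F) i
  let π' : Fin n → (P ⟶ F) := fun i => biproduct.π (fun _ : Fin n => F) i
  have hψι : ∀ i (U : X.Opens) (a : Γ(F, U)), ψ.app U ((ι' i).app U a) = tmul a (resM L le_top (s i)) :=
    fun i U a => congrArg (fun θ : F ⟶ _ => θ.app U a) (biproduct.ι_desc (fun i => Serre.rightMul F (s i)) i)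
  have htot : ∀ (U : X.Opens) (p : Γ(P, U)), p = ∑ i, (ι' i).app U ((π' i).app U p) := fun U p =>
    (biproduct_sections_total (fun _ : Fin n => F) U p).symm
  haveI : Epi ψ := by
    refine epi_of_locally_surjective _ fun W m y hy => ?_
    obtain ⟨i, hi⟩ := hs y
    have hgen : IsGen L (W ⊓ glocus L (s i)) (resM L le_top (s i)) := by
      have h1 := (isGen_glocus (s i)).restrict (inf_le_right : W ⊓ glocus L (s i) ≤ glocus L (s i))
      rwa [resM_resM] at h1
    obtain ⟨a, ha⟩ := (bijective_tmul_gen (M := F) hgen _ le_rfl).2 (resM _ inf_le_left m)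
    simp only [resM_self] at ha
    exact ⟨_, inf_le_left, ⟨hy, hi⟩, (ι' i).app _ a, (hψι i _ a).trans ha⟩
  haveI hK : Coh.IsQCoh (kernel ψ) := isQCoh_kernel ψ
  let κ₀ : Fin n × Fin n → (G ⟶ P) := fun p =>
    Serre.rightMul G (s p.1) ≫ ι' p.2 - Serre.rightMul G (s p.2) ≫ ι' p.1
  have hκapp : ∀ p (U : X.Opens) (c : Γ(G, U)), (κ₀ p).app U c =
      (ι' p.2).app U (tmul c (resM L le_top (s p.1))) - (ι' p.1).app U (tmul c (resM L le_top (s p.2))) :=
    fun p U c => rfl
  have hκ0 : ∀ p, κ₀ p ≫ ψ = 0 := fun p =>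
    Scheme.Modules.hom_ext _ _ fun U => ConcreteCategory.hom_ext _ _ fun (c : Γ(G, U)) => by
      show ψ.app U ((κ₀ p).app U c) = 0
      rw [hκapp, map_sub, hψι, hψι, Serre.tmul_tmul_comm hL c, sub_self]
  let κ : Fin n × Fin n → (G ⟶ kernel ψ) := fun p => kernel.lift ψ (κ₀ p) (hκ0 p)
  have hK1 : Subsingleton (Coh.HH X (kernel ψ) 1) := by
    refine subsingleton_H1_of_jointlyEpi hv hG h Finset.univ hK κ fun {Q} π hπ => ?_
    refine Scheme.Modules.hom_ext _ _ fun W => ConcreteCategory.hom_ext _ _ fun w => ?_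
    show π.app W w = 0
    refine sec_ext Q _ _ fun y hy => ?_
    obtain ⟨a, ha⟩ := hs y
    let U := W ⊓ glocus L (s a)
    refine ⟨U, inf_le_left, ⟨hy, ha⟩, ?_⟩
    rw [map_zero, ← app_resM]
    let sa : Γ(L, U) := resM L le_top (s a)
    have hgen : IsGen L U sa := by
      have h1 := (isGen_glocus (s a)).restrict (inf_le_right : U ≤ glocus L (s a))
      rwa [resM_resM] at h1
    let w' : Γ(P, U) := (kernel.ι ψ).app U (resM _ inf_le_left w)
    let wb : Fin n → Γ(F, U) := fun b => (π' b).app U w'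
    have hsum : ∑ b, tmul (wb b) (resM L le_top (s b)) = 0 := by
      have h0 : ψ.app U w' = 0 := kernel_ι_app_zero ψ U _
      rw [htot U w', map_sum] at h0
      simpa only [hψι] using h0
    choose c hc using fun b => (bijective_tmul_gen (M := G) hgen U le_rfl).2 (wb b)
    simp only [resM_self] at hc
    choose r hr using fun b => (hgen U le_rfl).2 (resM L le_top (s b))
    simp only [resM_self] at hr
    have hzero : ∑ b, r b • wb b = 0 := by
      refine (bijective_tmul_gen (M := F) hgen U le_rfl).1 ?_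
      simp only [resM_self]
      rw [tmul_zero_left]
      refine Eq.trans ?_ hsum
      let T : Γ(F, U) →+ Γ(CohB1.tensorMod F L, U) :=
        AddMonoidHom.mk' (fun t => tmul t sa) fun t t' => tmul_add_left t t' sa
      show T (∑ b, r b • wb b) = _
      rw [map_sum]
      refine Finset.sum_congr rfl fun b _ => ?_
      show tmul (r b • wb b) sa = _
      rw [tmul_smul_left, ← tmul_smul_right, hr b]
    have hw : resM _ inf_le_left w = ∑ b, (κ (a, b)).app U (c b) := by
      refine app_injective_of_mono (kernel.ι ψ) U ?_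
      rw [map_sum]
      show w' = _
      have e : ∀ b, (kernel.ι ψ).app U ((κ (a, b)).app U (c b)) =
          (ι' b).app U (wb b) - (ι' a).app U (r b • wb b) := fun b => by
        show ((κ (a, b) ≫ kernel.ι ψ).app U) (c b) = _
        rw [kernel.lift_ι, hκapp]
        refine congrArg₂ (fun x y => x - y) (congrArg _ (hc b)) (congrArg _ ?_)
        show tmul (c b) (resM L le_top (s b)) = _
        rw [← hr b, tmul_smul_right, hc b]
      rw [Finset.sum_congr rfl fun b _ => e b, Finset.sum_sub_distrib, ← map_sum, hzero, map_zero, sub_zero]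
      exact htot U w'
    rw [hw, map_sum]
    refine Finset.sum_eq_zero fun b _ => ?_
    exact congrArg (fun θ : G ⟶ Q => θ.app U (c b)) (hπ (a, b) (Finset.mem_univ _))
  let Sψ : ShortComplex X.Modules := ShortComplex.mk (kernel.ι ψ) ψ (kernel.condition ψ)
  have hS : Sψ.ShortExact := { exact := ShortComplex.exact_kernel ψ }
  obtain ⟨p, hp⟩ := surjective_app_top hS hK1 z
  refine ⟨n, s, fun i => (π' i).app ⊤ p, ?_⟩
  rw [← hp]
  show ψ.app ⊤ p = _
  rw [htot ⊤ p, map_sum]
  refine Finset.sum_congr rfl fun i _ => ?_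
  rw [hψι, resM_self, ← htot ⊤ p]

/-- The powers of a globally generated module without higher cohomology. -/
theorem Gl.subsingleton_H1_pow [CompactSpace X] (hv : NoH2 X) {L : X.Modules} (hL : PicF.IsInvertible L)
    (hg : Gl L) {m : ℕ} (hm : Subsingleton (Coh.HH X (CohB1.tensorPow L m) 1)) :
    ∀ n, m ≤ n → Subsingleton (Coh.HH X (CohB1.tensorPow L n) 1) := by
  intro n hn
  induction n, hn using Nat.le_induction with
  | base => exact hm
  | succ n _ ih =>
    exact hg.subsingleton_H1_tensor hv hL (isQCoh_of_isInvertible (isInvertible_tensorPow hL n)) ih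

theorem Gl.span_tmul_pow_eq_top [CompactSpace X] (hv : NoH2 X) {L : X.Modules} (hL : PicF.IsInvertible L)
    (hg : Gl L) (n : ℕ) (h : n = 0 ∨ Subsingleton (Coh.HH X (CohB1.tensorPow L (n - 1)) 1)) :
    Submodule.span (X.ringCatSheaf.obj.obj (Opposite.op ⊤))
        (Set.range (fun p : (CohB1.tensorPow L n).val.obj (Opposite.op ⊤) × L.val.obj (Opposite.op ⊤) =>
          SecTwist.tmul (CohB1.tensorPow L n) L ⊤ p.1 p.2)) = ⊤ := by
  refine eq_top_iff.2 fun z _ => ?_
  cases n with
  | zero =>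
    refine Submodule.subset_span ⟨(oneSec (⊤ : X.Opens), (unitTensorIso L).hom.app ⊤ z), ?_⟩
    let b := (unitTensorIso L).hom.app ⊤ z
    have h1 : (unitTensorIso L).hom.app ⊤ (tmul (oneSec (⊤ : X.Opens)) b) = b :=
      (Bilin.desc_tmul _ _ _ _).trans (one_smul Γ(X, ⊤) b)
    show tmul (oneSec (⊤ : X.Opens)) b = z
    exact (ConcreteCategory.bijective_of_isIso ((unitTensorIso L).hom.app ⊤)).1 h1
  | succ j =>
    have hj : Subsingleton (Coh.HH X (CohB1.tensorPow L j) 1) := h.resolve_left (Nat.succ_ne_zero j)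
    obtain ⟨m, s, w, hw⟩ := hg.exists_sum_tmul hv hL (isQCoh_of_isInvertible (isInvertible_tensorPow hL j)) hj z
    rw [hw]
    exact Submodule.sum_mem _ fun i _ => Submodule.subset_span ⟨(w i, s i), rfl⟩

end Groth.Agent.Lipman24
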