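import Groth.Agent.Clifford24.Lipman.GG
import Groth.Agent.Coherent.ClosedEquiv
import Groth.Agent.Coherent.SchemeCoh
import Groth.Agent.Coherent.ProjFormula
import Groth.Agent.AmpleLib.Relative
import Groth.Agent.AmpleLib.FTIdeal
import Groth.Agent.CurveRR24.Degree
import Groth.Agent.PicLib.FiniteSetTriv

/-!
# Closed subschemes: `H¹`, lifting sections
-/

set_option autoImplicit false
set_option linter.style.haveILetI false
set_option backward.isDefEq.respectTransparency.types false

universe u

open CategoryTheory CategoryTheory.Limits AlgebraicGeometry Opposite TopologicalSpace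
open Groth.Agent.Coherent Groth.Agent.PicLib Groth.Agent.AmpleLib Groth.Agent.EulerLib

namespace Groth.Agent.Lipman24

variable {X Z : Scheme.{u}} (i : Z ⟶ X) [IsClosedImmersion i]

include i in
theorem NoH2.closedImmersion (hv : NoH2 X) : NoH2 Z := fun M hM => by
  haveI := hM
  exact (HHAffinePushEquiv i M 2).toEquiv.subsingleton_congr.2 (hv _ (isQCoh_push i M))

theorem subsingleton_H1_pullback (hv : NoH2 X) {F : X.Modules} (hF : Coh.IsQCoh F)
    (h : Subsingleton (Coh.HH X F 1)) :
    Subsingleton (Coh.HH Z ((Scheme.Modules.pullback i).obj F) 1) := by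
  haveI := hF
  haveI hP : Coh.IsQCoh ((Scheme.Modules.pullback i).obj F) := EGA43.InjFibre.isQCoh_pullback i F
  haveI : Epi (clUnit i F) := epi_clUnit i
  exact (HHAffinePushEquiv i _ 1).toEquiv.subsingleton_congr.2
    (subsingleton_H1_of_epi hv hF (isQCoh_push i _) (clUnit i F) h)

include i in
theorem subsingleton_H1_structure (hv : NoH2 X) (h : Subsingleton (Coh.HH X (Coh.structureModule X) 1)) :
    Subsingleton (Coh.HH Z (Coh.structureModule Z) 1) := by
  obtain ⟨e⟩ := exists_pullStructureIso (X := X) i
  haveI : Coh.IsQCoh (Coh.structureModule Z) := isQCoh_structureModule (X := Z)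
  haveI hP : Coh.IsQCoh ((Scheme.Modules.pullback i).obj (Coh.structureModule X)) :=
    isQCoh_of_iso e.symm
  exact subsingleton_H1_of_epi (hv.closedImmersion i) hP inferInstance e.hom
    (subsingleton_H1_pullback i hv isQCoh_structureModule h)

omit [IsClosedImmersion i] in
/-- A section generating on `Z` comes from one generating at the image. -/
theorem exists_mem_glocus_of_pullback {L : X.Modules} (hL : PicF.IsInvertible L)
    (hsurj : Function.Surjective (pullSec i (L := L) (U := ⊤)))
    (h : Gl ((Scheme.Modules.pullback i).obj L)) (z : Z) : ∃ s : Γ(L, ⊤), i z ∈ glocus L s := by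
  obtain ⟨t, ht⟩ := h z
  obtain ⟨s, rfl⟩ := hsurj t
  rw [glocus_pullSec i hL] at ht
  exact ⟨s, ht⟩

/-- Sections lift when the kernel has no `H¹`. -/
theorem surjective_pullSec_of_H1 {L : X.Modules}
    (h : Subsingleton (Coh.HH X (kernel (clUnit i L)) 1)) :
    Function.Surjective (pullSec i (L := L) (U := ⊤)) := by
  haveI : Epi (clUnit i L) := epi_clUnit i
  let S : ShortComplex X.Modules := ShortComplex.mk (kernel.ι (clUnit i L)) (clUnit i L) (kernel.condition _)
  have hS : S.ShortExact := { exact := ShortComplex.exact_kernel (clUnit i L) }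
  exact surjective_app_top hS h

variable (J : X.IdealSheafData)

/-- The twisted ideal covers the kernel of restriction to the subscheme. -/
theorem subsingleton_H1_kernel_clUnit [IsLocallyNoetherian X] (hv : NoH2 X) {L : X.Modules}
    (hL : PicF.IsInvertible L)
    (h : Subsingleton (Coh.HH X (CohB1.tensorMod (ClSub.idealMod J) L) 1)) :
    Subsingleton (Coh.HH X (kernel (clUnit J.subschemeι L)) 1) := by
  haveI hq : Coh.IsQCoh L := isQCoh_of_isInvertible hL
  haveI : Coh.IsQCoh ((Scheme.Modules.pullback J.subschemeι).obj L) :=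
    EGA43.InjFibre.isQCoh_pullback J.subschemeι L
  haveI : Coh.IsQCoh ((Coh.push J.subschemeι).obj ((Scheme.Modules.pullback J.subschemeι).obj L)) :=
    isQCoh_push J.subschemeι _
  have hz : twistMul J L ≫ clUnit J.subschemeι L = 0 := AmpleLib.hom_ext fun U a b => by
    show pullSec J.subschemeι ((twistMul J L).app U (tmul a b)) = _
    rw [twistMul_tmul, pullSec_smul, (mem_range_idealModι J U _).1 ⟨a, rfl⟩, zero_smul]
    rfl
  let μ : CohB1.tensorMod (ClSub.idealMod J) L ⟶ kernel (clUnit J.subschemeι L) :=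
    kernel.lift _ (twistMul J L) hz
  haveI : Epi μ := by
    refine epi_of_locally_surjective _ fun W m y hy => ?_
    obtain ⟨V, hyV, g, hg⟩ := exists_isGen hL y
    let U := W ⊓ V
    let g' := resM L (inf_le_right : U ≤ V) g
    have hg' : IsGen L U g' := hg.restrict inf_le_right
    let m' : Γ(L, U) := (kernel.ι (clUnit J.subschemeι L)).app U (resM _ inf_le_left m)
    obtain ⟨r, hr⟩ := (hg' U le_rfl).2 m'
    beta_reduce at hr
    rw [resM_self] at hr
    have h0 : pullSec J.subschemeι m' = 0 := kernel_ι_app_zero (clUnit J.subschemeι L) U _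
    rw [← hr, pullSec_smul] at h0
    have hr0 : J.subschemeι.app U r = 0 := by
      refine ((isGen_pullSec J.subschemeι hg' hL) _ le_rfl).1 ?_
      show J.subschemeι.app U r • resM _ le_rfl _ = (0 : Γ(J.subscheme, _)) • resM _ le_rfl _
      rw [resM_self, h0, zero_smul]
    obtain ⟨c, hc⟩ := (mem_range_idealModι J U r).2 hr0
    refine ⟨U, inf_le_left, ⟨hy, hyV⟩, tmul c g', ?_⟩
    refine app_injective_of_mono (kernel.ι (clUnit J.subschemeι L)) U ?_
    refine Eq.trans ?_ hr
    show ((μ ≫ kernel.ι _).app U) (tmul c g') = _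
    rw [kernel.lift_ι, twistMul_tmul, hc]
  haveI : Coh.IsQCoh (ClSub.idealMod J) := (CurveRR24.isCoh_idealMod' J).1
  exact subsingleton_H1_of_epi hv (isQCoh_tensor_invertible _ hL) (isQCoh_kernel _) μ h

/-- Twisting a module killed by the ideal of a subscheme on which `L` is globally generated. -/
theorem subsingleton_H1_tensor_of_killed [CompactSpace Z] [IsLocallyNoetherian X] (hv : NoH2 X)
    {L : X.Modules} (hL : PicF.IsInvertible L) (hg : Gl ((Scheme.Modules.pullback i).obj L))
    {F : X.Modules} (hF : Coh.IsQCoh F) (hk : ClSub.KilledByIdeal i.ker F)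
    (h : Subsingleton (Coh.HH X F 1)) : Subsingleton (Coh.HH X (CohB1.tensorMod F L) 1) := by
  haveI := hF
  let M := (Scheme.Modules.pullback i).obj F
  let P := (Scheme.Modules.pullback i).obj L
  haveI hM : Coh.IsQCoh M := EGA43.InjFibre.isQCoh_pullback i F
  haveI : Coh.IsQCoh ((Coh.push i).obj M) := isQCoh_push i M
  haveI hFL : Coh.IsQCoh (CohB1.tensorMod F L) := isQCoh_tensor_invertible F hL
  have hP : PicF.IsInvertible P := PicLoc.isInvertible_pullback i hL
  have hM1 : Subsingleton (Coh.HH Z M 1) := subsingleton_H1_pullback i hv hF h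
  have h1 : Subsingleton (Coh.HH Z (CohB1.tensorMod M P) 1) :=
    hg.subsingleton_H1_tensor (hv.closedImmersion i) hP hM hM1
  haveI hMP : Coh.IsQCoh (CohB1.tensorMod M P) := isQCoh_tensor_invertible M hP
  haveI : Coh.IsQCoh ((Coh.push i).obj (CohB1.tensorMod M P)) := isQCoh_push i _
  have h2 := (HHAffinePushEquiv i (CohB1.tensorMod M P) 1).toEquiv.subsingleton_congr.1 h1
  have hloc : FlatMod.IsFinLocFree L := fun x => by
    obtain ⟨U, hx, e⟩ := isFinLocFreeOfRank_one hL x
    exact ⟨U, 1, hx, e⟩
  let e : (Coh.push i).obj (CohB1.tensorMod M P) ≅ CohB1.tensorMod F L :=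
    (Coh.push i).mapIso (tensorComm M P) ≪≫ ((projIso (f := i) hloc).app M).symm ≪≫
      tensorIso (Iso.refl L) (clIso i hk).symm ≪≫ tensorComm L F
  haveI : Epi e.hom := inferInstance
  exact subsingleton_H1_of_epi hv inferInstance hFL e.hom h2

end Groth.Agent.Lipman24
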