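import Groth.Agent.Clifford24.Lipman.Induction
import Groth.Agent.CurveRR24.GenusZero
import Groth.Agent.EmbLib24.Criterion
import Groth.Agent.EulerLib.FieldExt
import Groth.Agent.Desc19b.GGFpqc

/-!
# Nef invertible modules on one-dimensional proper schemes without `H¹(O)`
-/

set_option autoImplicit false
set_option linter.style.haveILetI false
set_option backward.isDefEq.respectTransparency.types false

universe u

open CategoryTheory CategoryTheory.Limits AlgebraicGeometry Opposite TopologicalSpace
open Groth.Agent.Coherent Groth.Agent.PicLib Groth.Agent.AmpleLib Groth.Agent.EulerLib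

namespace Groth.Agent.Lipman24

variable {X : Scheme.{u}}

theorem noH2_of_dim [AlgebraicGeometry.IsNoetherian X] [X.IsSeparated] (hdim : topologicalKrullDim X ≤ 1) :
    NoH2 X := fun M hM => by
  haveI := hM
  exact subsingleton_HH_of_dim M (d := 1) (by exact_mod_cast hdim) (by omega)

theorem exists_mem_glocus_of_span_germ {L : X.Modules} (hL : PicF.IsInvertible L) (z : X)
    (h : Submodule.span (X.presheaf.stalk z) (Set.range fun t : Γ(L, ⊤) => L.presheaf.germ ⊤ z trivial t) = ⊤) :
    ∃ s : Γ(L, ⊤), z ∈ glocus L s := by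
  by_contra hcon
  push Not at hcon
  have hle : Submodule.span (X.presheaf.stalk z) (Set.range fun t : Γ(L, ⊤) => L.presheaf.germ ⊤ z trivial t) ≤
      IsLocalRing.maximalIdeal (X.presheaf.stalk z) •
        (⊤ : Submodule (X.presheaf.stalk z) (L.presheaf.stalk z)) := by
    refine Submodule.span_le.2 ?_
    rintro _ ⟨t, rfl⟩
    exact not_not.1 ((CurveRR24.mem_glocus_iff_germ hL _ z).not.1 (hcon t))
  rw [h] at hle
  obtain ⟨U, hzU, e, he⟩ := exists_isGen hL z
  have h3 := (EmbLib24.mem_smul_top_iff _ (EmbLib24.bijective_smul_germ he hzU) _ (1 : X.presheaf.stalk z)).1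
    (hle Submodule.mem_top)
  exact (IsLocalRing.maximalIdeal.isMaximal _).ne_top ((Ideal.eq_top_iff_one _).2 h3)

theorem gl_of_subsingleton [Subsingleton X] {L : X.Modules} (hL : PicF.IsInvertible L) : Gl L := fun x => by
  obtain ⟨U, hxU, g, hg⟩ := exists_isGen hL x
  obtain rfl : U = ⊤ := top_le_iff.1 fun y _ => Subsingleton.elim x y ▸ hxU
  refine ⟨g, (le_glocus_iff g ⊤).2 ?_ trivial⟩
  rwa [resM_self]

theorem subsingleton_of_dim_zero [IrreducibleSpace X] (hdim : topologicalKrullDim X ≤ 0) : Subsingleton X := by
  have hη : ∀ x : X, x = genericPoint X := fun x => by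
    by_contra hne
    have hη : genericPoint X ∉ closure ({x} : Set X) := fun h => hne
      ((genericPoint_specializes x).antisymm (specializes_iff_mem_closure.2 h)).eq.symm
    let a : IrreducibleCloseds X := ⟨closure {x}, isIrreducible_singleton.closure, isClosed_closure⟩
    let b : IrreducibleCloseds X := ⟨Set.univ, IrreducibleSpace.isIrreducible_univ X, isClosed_univ⟩
    have hab : a < b := lt_of_le_of_ne (fun y _ => trivial) fun e => hη (by
      have h' : genericPoint X ∈ (a : Set X) := by rw [e]; trivial
      exact h')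
    have h1 : (1 : WithBot ℕ∞) ≤ topologicalKrullDim X := by
      refine le_trans ?_ (Order.LTSeries.length_le_krullDim ((RelSeries.singleton _ a).snoc b hab))
      exact le_of_eq rfl
    exact absurd (h1.trans hdim) (by decide)
  exact ⟨fun x y => (hη x).trans (hη y).symm⟩

variable (k : Type u) [Field k]

/-- An invertible module of degree `≥ 0` on an integral proper curve without `H¹(O)`. -/
theorem gl_of_deg_nonneg [X.Over (Spec (CommRingCat.of k))] [IsProper (X ↘ Spec (CommRingCat.of k))]
    [IsIntegral X] (hdim : topologicalKrullDim X ≤ 1)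
    (h1 : Subsingleton (Coh.HH X (Coh.structureModule X) 1)) {L : X.Modules} (hL : PicF.IsInvertible L)
    (hdeg : topologicalKrullDim X = 1 → 0 ≤ Curv2.deg k X L 1) : Gl L := by
  haveI := EulerLib.isNoetherian_of_proper k (X := X)
  by_cases h : topologicalKrullDim X = 1
  · intro z
    have hc := CurveRR24.isCoh_of_isInvertible k hL
    have hg : Curv2.genus k X = 0 := Module.finrank_zero_of_subsingleton
    have hrr := CurveRR24.riemann_roch k hdim hL
    haveI := CurveRR24.finite_HH_of_isCoh k (isCoh_structureModule X) 0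
    have hpos : 0 < Module.finrank k (Coh.HH X (Coh.structureModule X) 0) := by
      haveI : Nontrivial (Coh.HH X (Coh.structureModule X) 0) := by
        refine (CurveRR24.hhZero k (Coh.structureModule X)).toEquiv.nontrivial_congr.2 ?_
        haveI : Nonempty (⊤ : X.Opens) := ⟨⟨genericPoint X, trivial⟩⟩
        exact inferInstanceAs (Nontrivial Γ(X, ⊤))
      exact Module.finrank_pos
    refine exists_mem_glocus_of_span_germ hL z (CurveRR24.span_germ_eq_top k hdim hc hL (𝟙 L) ?_ z)
    rw [hg] at hrr ⊢
    have := hdeg h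
    push_cast at hrr
    omega
  · haveI : Subsingleton X := subsingleton_of_dim_zero (Order.le_of_lt_succ (lt_of_le_of_ne hdim h))
    exact gl_of_subsingleton hL

/-- Global generation on all subvarieties gives global generation, over any field. -/
theorem gl_of_subvarieties_field [X.Over (Spec (CommRingCat.of k))]
    [IsProper (X ↘ Spec (CommRingCat.of k))] (hdim : topologicalKrullDim X ≤ 1)
    (h1 : Subsingleton (Coh.HH X (Coh.structureModule X) 1)) {L : X.Modules} (hL : PicF.IsInvertible L)
    (hJ : ∀ J : X.IdealSheafData, IsIntegral J.subscheme →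
      Gl ((Scheme.Modules.pullback J.subschemeι).obj L)) : Gl L := by
  let K := AlgebraicClosure k
  let q := X ↘ Spec (CommRingCat.of k)
  let X' := Curv2.bc k X K
  let g : X' ⟶ X := Curv2.bcFst k X K
  let _ : X'.Over (Spec (CommRingCat.of K)) := ⟨Curv2.bcSnd k X K⟩
  let q' := X' ↘ Spec (CommRingCat.of K)
  have hpb : IsPullback g q' q (Spec.map (CommRingCat.ofHom (algebraMap k K))) :=
    IsPullback.of_hasPullback _ _
  haveI : IsProper q' := inferInstanceAs (IsProper (pullback.snd q (Spec.map (CommRingCat.ofHom (algebraMap k K)))))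
  haveI := EulerLib.isNoetherian_of_proper k (X := X)
  haveI := EulerLib.isNoetherian_of_proper K (X := X')
  haveI : X'.IsSeparated := ⟨by rw [← terminal.comp_from q']; infer_instance⟩
  haveI : IsAffineHom g := MorphismProperty.of_isPullback (P := @IsAffineHom) hpb.flip inferInstance
  have hdim' : topologicalKrullDim X' ≤ 1 := (DimLib.topologicalKrullDim_bc q K).le.trans hdim
  have h1' : Subsingleton (Coh.HH X' (Coh.structureModule X') 1) := by
    haveI := CurveRR24.finite_HH_of_isCoh K (isCoh_structureModule X') 1
    have := CurveRR24.finrank_HH_structure_bc hpb 1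
    rw [Module.finrank_zero_of_subsingleton (M := Coh.HH X (Coh.structureModule X) 1)] at this
    exact Module.finrank_zero_iff.1 this
  have hL' : PicF.IsInvertible ((Scheme.Modules.pullback g).obj L) := PicLoc.isInvertible_pullback g hL
  have hgl : Gl ((Scheme.Modules.pullback g).obj L) :=
    gl_of_subvarieties K q' (noH2_of_dim hdim') h1' hL' fun J hJi =>
      haveI := hJi
      (Gl.pullback_of_integral (J.subschemeι ≫ g) hL hJ).of_iso
        ((Scheme.Modules.pullbackComp J.subschemeι g).app L).symm
  haveI : Coh.IsQCoh L := isQCoh_of_isInvertible hL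
  haveI : X.IsSeparated := ⟨by rw [← terminal.comp_from q]; infer_instance⟩
  have hgg : Curv2.IsGloballyGenerated L :=
    Desc19b.isGloballyGenerated_of_pullback (A := CommRingCat.of k) (B := CommRingCat.of K) g q q' hpb L
      (hgl.globallyGenerated hL')
  exact Gl.of_closedPoints fun P hP => CurveRR24.exists_mem_glocus_of_gg k hP hL hgg

/-- Lipman's theorem over a field. -/
theorem gl_and_H1_of_nef [X.Over (Spec (CommRingCat.of k))]
    [IsProper (X ↘ Spec (CommRingCat.of k))] (hdim : topologicalKrullDim X ≤ 1)
    (h1 : Subsingleton (Coh.HH X (Coh.structureModule X) 1)) {L : X.Modules} (hL : PicF.IsInvertible L)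
    (hnef : ∀ J : X.IdealSheafData, IsIntegral J.subscheme → topologicalKrullDim J.subscheme = 1 →
      0 ≤ @Curv2.deg k _ J.subscheme ⟨J.subschemeι ≫ (X ↘ (Spec (CommRingCat.of k)))⟩
        ((Scheme.Modules.pullback J.subschemeι).obj L) 1) :
    Gl L ∧ Subsingleton (Coh.HH X L 1) := by
  haveI := EulerLib.isNoetherian_of_proper k (X := X)
  haveI : X.IsSeparated := ⟨by rw [← terminal.comp_from (X ↘ Spec (CommRingCat.of k))]; infer_instance⟩
  have hv := noH2_of_dim (X := X) hdim
  have hgl : Gl L := gl_of_subvarieties_field k hdim h1 hL fun J hJ => by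
    haveI := hJ
    let _ : J.subscheme.Over (Spec (CommRingCat.of k)) := ⟨J.subschemeι ≫ (X ↘ Spec (CommRingCat.of k))⟩
    haveI : IsProper (J.subscheme ↘ Spec (CommRingCat.of k)) :=
      inferInstanceAs (IsProper (J.subschemeι ≫ (X ↘ Spec (CommRingCat.of k))))
    exact gl_of_deg_nonneg k (J.subschemeι.isClosedEmbedding.isInducing.topologicalKrullDim_le.trans hdim)
      (subsingleton_H1_structure J.subschemeι hv h1) (PicLoc.isInvertible_pullback _ hL) (hnef J hJ)
  exact ⟨hgl, hgl.subsingleton_H1 hv hL h1⟩

end Groth.Agent.Lipman24
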