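import Groth.Agent.Clifford24.Lipman.ClosedSub
import Groth.Agent.Coherent.AnnSheaf
import Groth.Agent.Coherent.Chow
import Groth.Agent.VarietyLib.AmpleComponents
import Groth.Agent.AbSchLib.GlobalSections
import Groth.Agent.H8Top.SchemeBasic
import Mathlib.RingTheory.Ideal.AssociatedPrime.Localization

/-!
# Global generation from the integral closed subschemes
-/

set_option autoImplicit false
set_option linter.style.haveILetI false
set_option backward.isDefEq.respectTransparency.types false

universe u

open CategoryTheory CategoryTheory.Limits AlgebraicGeometry Opposite TopologicalSpace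
open Groth.Agent.Coherent Groth.Agent.PicLib Groth.Agent.AmpleLib Groth.Agent.EulerLib

namespace Groth.Agent.Lipman24

variable {X : Scheme.{u}}

theorem isIntegral_ker_subscheme {C : Scheme.{u}} [IsIntegral C] (q : C ⟶ X) [QuasiCompact q] :
    IsIntegral q.ker.subscheme := by
  haveI : IsReduced q.image := Coherent.isReduced_image q
  haveI : IrreducibleSpace q.image := by
    have h1 : _root_.IsPreirreducible (Set.univ : Set q.image) := by
      rw [← (q.toImage.denseRange).closure_range, ← Set.image_univ]
      exact ((IrreducibleSpace.isIrreducible_univ _).2.image q.toImage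
        q.toImage.continuous.continuousOn).closure
    exact { toPreirreducibleSpace := ⟨h1⟩, toNonempty := ⟨q.toImage (genericPoint C)⟩ }
  exact isIntegral_of_irreducibleSpace_of_isReduced q.image

/-- Global generation on integral schemes mapping to `X` from global generation on subvarieties. -/
theorem Gl.pullback_of_integral {C : Scheme.{u}} [IsIntegral C] (q : C ⟶ X) [QuasiCompact q]
    {L : X.Modules} (hL : PicF.IsInvertible L)
    (hJ : ∀ J : X.IdealSheafData, IsIntegral J.subscheme →
      Gl ((Scheme.Modules.pullback J.subschemeι).obj L)) :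
    Gl ((Scheme.Modules.pullback q).obj L) := by
  have h := (hJ q.ker (isIntegral_ker_subscheme q)).pullback q.toImage
    (PicLoc.isInvertible_pullback q.ker.subschemeι hL)
  exact h.of_iso ((Scheme.Modules.pullbackComp q.toImage q.ker.subschemeι).app L ≪≫
    (Scheme.Modules.pullbackCongr q.toImage_imageι).app L)

theorem subsingleton_H1_X₁ {S : ShortComplex X.Modules} (hS : S.ShortExact)
    (hs : Function.Surjective (S.g.app ⊤)) (h₂ : Subsingleton (Coh.HH X S.X₂ 1)) :
    Subsingleton (Coh.HH X S.X₁ 1) := by
  rw [subsingleton_HH_iff] at *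
  let φ := RingHom.id Γ(X, ⊤)
  refine subsingleton_of_forall_eq 0 fun x => ?_
  obtain ⟨y, rfl⟩ := (exact_deltaA_postA φ hS ⊤ 0 x).1 (Subsingleton.elim _ _)
  obtain ⟨w, hw⟩ := hs (secA φ S.X₃ y)
  have hy : postA φ S.g ⊤ 0 ((secA φ S.X₂).symm w) = y := by
    apply (secA φ S.X₃).injective
    rw [secA_natural, LinearEquiv.apply_symm_apply]
    exact hw
  exact ((exact_postA_deltaA φ hS ⊤ 0 y).2 ⟨_, hy⟩)

theorem exists_minimal_point_killed [IsLocallyNoetherian X] (x : X) :
    ∃ (η : X) (U : X.Opens) (_ : IsAffineOpen U) (_ : η ∈ U) (a : Γ(X, U)),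
      η ⤳ x ∧ a ≠ 0 ∧ ∀ r : Γ(X, U), η ∉ X.basicOpen r → r * a = 0 := by
  obtain ⟨U, hU, hxU, -⟩ := exists_isAffineOpen_mem_and_subset (x := x) (U := ⊤) trivial
  haveI : IsNoetherianRing Γ(X, U) := IsLocallyNoetherian.component_noetherian ⟨U, hU⟩
  let P := hU.primeIdealOf ⟨x, hxU⟩
  obtain ⟨p, hp, hple⟩ := Ideal.exists_minimalPrimes_le (I := (⊥ : Ideal Γ(X, U))) (J := P.asIdeal) bot_le
  have hass : p ∈ associatedPrimes Γ(X, U) Γ(X, U) :=
    Module.associatedPrimes.minimalPrimes_annihilator_subset_associatedPrimes Γ(X, U) Γ(X, U)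
      (by rwa [Module.annihilator_eq_bot.2 inferInstance])
  obtain ⟨hpp, a, ha⟩ := isAssociatedPrime_iff.1 hass
  let pp : PrimeSpectrum Γ(X, U) := ⟨p, hpp⟩
  have hmem : hU.fromSpec pp ∈ U := hU.range_fromSpec.le ⟨pp, rfl⟩
  refine ⟨hU.fromSpec pp, U, hU, hmem, a, ?_, ?_, fun r hr => ?_⟩
  · have h1 : pp ⤳ P := (PrimeSpectrum.le_iff_specializes pp P).1 hple
    have h2 := h1.map hU.fromSpec.continuous
    rwa [hU.fromSpec_primeIdealOf ⟨x, hxU⟩] at h2
  · intro h0
    refine hpp.ne_top ((Ideal.eq_top_iff_one _).2 ?_)
    rw [ha, h0]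
    exact Submodule.mem_colon_singleton.2 (smul_zero (1 : Γ(X, U)))
  · have hrp : r ∈ p := by
      by_contra hrp
      exact hr ((hU.fromSpec_preimage_basicOpen r).ge (show pp ∈ PrimeSpectrum.basicOpen r from hrp))
    rw [ha, Submodule.mem_colon_singleton, Submodule.mem_bot] at hrp
    exact hrp

/-- On a proper scheme over an algebraically closed field without `H¹(O)` and `H²`, global generation can
be tested on integral closed subschemes. -/
theorem gl_of_subvarieties (k : Type u) [Field k] [IsAlgClosed k] (f : X ⟶ Spec (CommRingCat.of k))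
    [IsProper f] (hv : NoH2 X) (h1 : Subsingleton (Coh.HH X (Coh.structureModule X) 1))
    {L : X.Modules} (hL : PicF.IsInvertible L)
    (hJ : ∀ J : X.IdealSheafData, IsIntegral J.subscheme →
      Gl ((Scheme.Modules.pullback J.subschemeι).obj L)) :
    Gl L := by
  haveI : IsLocallyNoetherian X := LocallyOfFiniteType.isLocallyNoetherian f
  haveI : CompactSpace X := QuasiCompact.compactSpace_of_compactSpace f
  haveI : IsNoetherian X := {}
  haveI := H8Top.wellFoundedGT_idealSheafData X
  suffices h : ∀ (I : X.IdealSheafData) (Z : Scheme.{u}) (i : Z ⟶ X), IsClosedImmersion i → i.ker = I →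
      Gl ((Scheme.Modules.pullback i).obj L) from
    (h _ X (𝟙 X) inferInstance rfl).of_iso ((Scheme.Modules.pullbackId X).app L)
  intro I
  induction I using WellFoundedGT.induction with
  | ind I ih =>
    intro Z i hi hI z
    haveI := hi
    haveI : IsLocallyNoetherian Z := LocallyOfFiniteType.isLocallyNoetherian i
    haveI : CompactSpace Z := QuasiCompact.compactSpace_of_compactSpace (i ≫ f)
    have hvZ : NoH2 Z := hv.closedImmersion i
    have hLZ : PicF.IsInvertible ((Scheme.Modules.pullback i).obj L) := PicLoc.isInvertible_pullback i hL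
    obtain ⟨η, U, hU, hηU, a, hηz, ha0, ha⟩ := exists_minimal_point_killed z
    let J : Z.IdealSheafData := Scheme.IdealSheafData.vanishingIdeal ⟨closure {η}, isClosed_closure⟩
    haveI hint : IsIntegral J.subscheme :=
      VarietyLib.isIntegral_vanishingIdeal _ isIrreducible_singleton.closure
    have hsupp : (J.support : Set Z) = closure {η} := Scheme.IdealSheafData.coe_support_vanishingIdeal _
    haveI : ConnectedSpace J.subscheme := inferInstance
    haveI : Coh.IsQCoh (Coh.structureModule Z) := isQCoh_structureModule (X := Z)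
    have hK : Coh.IsCoh (ClSub.idealMod J) := CurveRR24.isCoh_idealMod' J
    have hsurj : Function.Surjective ((ClSub.toSubscheme J).app ⊤) := fun y => by
      obtain ⟨c, hc⟩ := AbSchLib.surjective_appTop_of_isAlgClosed k (J.subschemeι ≫ i ≫ f)
        (show Γ(J.subscheme, ⊤) from y)
      refine ⟨(show Γ(Z, ⊤) from (i ≫ f).appTop c), ?_⟩
      rw [Scheme.Hom.comp_appTop] at hc
      exact hc
    have hK1 : Subsingleton (Coh.HH Z (ClSub.idealMod J) 1) :=
      subsingleton_H1_X₁ (CurveRR24.shortExact_ideal J) hsurj (subsingleton_H1_structure i hv h1)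
    let A : Z.IdealSheafData := annSheaf hK.1 hK.2
    have hA : A ≠ ⊥ := fun hA => ha0 <| by
      have hmem : a ∈ A.ideal ⟨U, hU⟩ := by
        show a ∈ Module.annihilator Γ(Z, U) Γ(ClSub.idealMod J, U)
        refine Module.mem_annihilator.2 fun m => ?_
        haveI := mono_idealModι J
        refine app_injective_of_mono (ClSub.idealModι J) U ?_
        rw [Scheme.Modules.Hom.app_smul, map_zero]
        show a * (show Γ(Z, U) from (ClSub.idealModι J).app U m) = 0
        rw [mul_comm]
        refine ha _ fun hη => basicOpen_idealModι_le J U m hη ?_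
        rw [hsupp]
        exact subset_closure rfl
      rw [hA, Scheme.IdealSheafData.ideal_bot] at hmem
      exact hmem
    let j := A.subschemeι
    have hlt : I < (j ≫ i).ker := by
      refine lt_of_le_of_ne (hI ▸ j.le_ker_comp i) fun he => hA ?_
      have hle : (j ≫ i).ker ≤ i.ker := by rw [hI, ← he]
      let h := IsClosedImmersion.lift (j ≫ i) i hle
      have hh : h ≫ j = 𝟙 Z := by
        rw [← cancel_mono i, Category.assoc, IsClosedImmersion.lift_fac, Category.id_comp]
      have := h.le_ker_comp j
      rw [hh, Scheme.IdealSheafData.ker_subschemeι, Scheme.Hom.ker_eq_bot_of_isIso] at this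
      exact le_bot_iff.1 this
    have hglA : Gl ((Scheme.Modules.pullback j).obj ((Scheme.Modules.pullback i).obj L)) :=
      (ih _ hlt _ (j ≫ i) inferInstance rfl).of_iso ((Scheme.Modules.pullbackComp j i).app L).symm
    haveI : CompactSpace A.subscheme := QuasiCompact.compactSpace_of_compactSpace j
    have hKL := subsingleton_H1_tensor_of_killed j hvZ hLZ hglA hK.1 (killed_ker_annSheaf hK.1 hK.2) hK1
    have hlift := surjective_pullSec_of_H1 J.subschemeι (L := (Scheme.Modules.pullback i).obj L)
      (subsingleton_H1_kernel_clUnit J hvZ hLZ hKL)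
    obtain ⟨w, hw⟩ := (Set.ext_iff.1 J.range_subschemeι z).2 (hsupp.ge (hηz.mem_closure))
    have hglC : Gl ((Scheme.Modules.pullback J.subschemeι).obj ((Scheme.Modules.pullback i).obj L)) :=
      (Gl.pullback_of_integral (J.subschemeι ≫ i) hL hJ).of_iso
        ((Scheme.Modules.pullbackComp J.subschemeι i).app L).symm
    have := exists_mem_glocus_of_pullback J.subschemeι hLZ hlift hglC w
    rwa [hw] at this

end Groth.Agent.Lipman24
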