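import Groth.Agent.Clifford24.Lipman.Field
import Groth.Agent.H8Lim.FibreDimVanish
import Groth.Agent.Coherent.FormalFunctions
import Groth.Agent.Coherent.FlatBaseChangeMain
import Groth.Agent.PicLib.FormalGen

/-!
# Lipman's theorem over a Noetherian base
-/

set_option autoImplicit false
set_option linter.style.haveILetI false
set_option backward.isDefEq.respectTransparency.types false

universe u

open CategoryTheory CategoryTheory.Limits AlgebraicGeometry Opposite TopologicalSpace
open Groth.Agent.Coherent Groth.Agent.PicLib Groth.Agent.AmpleLib Groth.Agent.EulerLib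

namespace Groth.Agent.Lipman24

variable {X : Scheme.{u}}

/-- `H¹` of a module jointly covered by `F` is the sum of the images. -/
theorem iSup_range_postA_eq_top {A : Type u} [CommRing A] (φ' : A →+* Γ(X, ⊤)) (hv : NoH2 X)
    {F : X.Modules} (hF : Coh.IsQCoh F) {ι : Type*} (T : Finset ι) : ∀ {G : X.Modules}, Coh.IsQCoh G →
      ∀ φ : ι → (F ⟶ G), (∀ {Q : X.Modules} (π : G ⟶ Q), (∀ i ∈ T, φ i ≫ π = 0) → π = 0) →
        (⊤ : Submodule A (HA φ' G (⊤ : X.Opens) 1)) ≤
          ⨆ i ∈ T, LinearMap.range (postA φ' (φ i) (⊤ : X.Opens) 1) := by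
  classical
  induction T using Finset.induction with
  | empty =>
    intro G _ φ hj x _
    have hG : IsZero G := (IsZero.iff_id_eq_zero G).2 (hj (𝟙 G) fun i hi => absurd hi (Finset.notMem_empty i))
    haveI : Subsingleton (HA φ' G (⊤ : X.Opens) 1) :=
      (HHTopEquiv G 1).symm.toEquiv.subsingleton_congr.2 (subsingleton_HH_of_isZero hG 1)
    rw [Subsingleton.elim x 0]
    exact Submodule.zero_mem _
  | @insert a T _ ih =>
    intro G hG φ hj x _
    haveI := hF
    haveI := hG
    let π := cokernel.π (φ a)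
    haveI hQ : Coh.IsQCoh (cokernel (φ a)) := isQCoh_cokernel (φ a)
    have h3 := ih hQ (fun i => φ i ≫ π) (fun {Q} θ hθ => by
      refine (cancel_epi π).1 (Eq.trans ?_ comp_zero.symm)
      refine hj (π ≫ θ) fun i hi => ?_
      rcases Finset.mem_insert.1 hi with rfl | hi
      · rw [← Category.assoc, cokernel.condition, zero_comp]
      · rw [← Category.assoc]; exact hθ i hi) (Submodule.mem_top (x := postA φ' π ⊤ 1 x))
    have h4 : (⨆ i ∈ T, LinearMap.range (postA φ' (φ i ≫ π) (⊤ : X.Opens) 1)) ≤
        (⨆ i ∈ T, LinearMap.range (postA φ' (φ i) (⊤ : X.Opens) 1)).map (postA φ' π ⊤ 1) := by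
      refine iSup₂_le fun i hi => ?_
      rintro _ ⟨y, rfl⟩
      exact ⟨postA φ' (φ i) ⊤ 1 y, le_biSup (f := fun i => LinearMap.range (postA φ' (φ i) (⊤ : X.Opens) 1))
        hi ⟨y, rfl⟩, (postHM_comp (φ i) π 1 (⊤ : X.Opens) y).symm⟩
    obtain ⟨w, hw, hwx⟩ := h4 h3
    let K := kernel π
    haveI hK : Coh.IsQCoh K := isQCoh_kernel π
    let p : F ⟶ K := kernel.lift π (φ a) (cokernel.condition _)
    haveI : Epi p :=
      (ShortComplex.exact_of_g_is_cokernel (ShortComplex.mk (φ a) π (cokernel.condition _))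
        (cokernelIsCokernel _)).epi_kernelLift
    let S : ShortComplex X.Modules := ShortComplex.mk (kernel.ι π) π (kernel.condition π)
    have hS : S.ShortExact := { exact := ShortComplex.exact_kernel π }
    obtain ⟨z, hz⟩ := (exact_postA φ' hS ⊤ 1 (x - w)).1 (by
      rw [map_sub]
      exact sub_eq_zero.2 hwx.symm)
    let S' : ShortComplex X.Modules := ShortComplex.mk (kernel.ι p) p (kernel.condition p)
    have hS' : S'.ShortExact := { exact := ShortComplex.exact_kernel p }
    haveI : Subsingleton (HA φ' (kernel p) (⊤ : X.Opens) (1 + 1)) :=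
      (HHTopEquiv (kernel p) 2).symm.toEquiv.subsingleton_congr.2 (hv _ (isQCoh_kernel p))
    obtain ⟨v, hv'⟩ := (exact_postA_deltaA φ' hS' ⊤ 1 z).1 (Subsingleton.elim _ _)
    have hxa : postA φ' (φ a) ⊤ 1 v = x - w := by
      rw [← hz, ← hv', ← kernel.lift_ι π (φ a) (cokernel.condition _)]
      exact postHM_comp p (kernel.ι π) 1 (⊤ : X.Opens) v
    rw [← sub_add_cancel x w, ← hxa]
    refine Submodule.add_mem _ ?_ ?_
    · exact le_biSup (f := fun i => LinearMap.range (postA φ' (φ i) (⊤ : X.Opens) 1))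
        (Finset.mem_insert_self a T) ⟨v, rfl⟩
    · have hmono : (⨆ i ∈ T, LinearMap.range (postA φ' (φ i) (⊤ : X.Opens) 1)) ≤
          ⨆ i ∈ insert a T, LinearMap.range (postA φ' (φ i) (⊤ : X.Opens) 1) :=
        biSup_mono fun i hi => Finset.mem_insert_of_mem hi
      exact hmono hw

variable {A : Type u} [CommRing A] [IsNoetherianRing A]

/-- The kernel of restriction to a closed fibre is generated by the equations of the point. -/
theorem mem_map_of_app_eq_zero [X.Over (Spec (CommRingCat.of A))] (m : Ideal A) {Z : Scheme.{u}}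
    [Z.Over (Spec (CommRingCat.of (A ⧸ m)))] (g : Z ⟶ X) [IsAffineHom g]
    (h : IsPullback g (Z ↘ Spec (CommRingCat.of (A ⧸ m))) (X ↘ Spec (CommRingCat.of A))
      (Spec.map (CommRingCat.ofHom (algebraMap A (A ⧸ m)))))
    {U : X.Opens} (hU : IsAffineOpen U) {r : Γ(X, U)} (hr : g.app U r = 0) :
    r ∈ m.map ((X.presheaf.map (homOfLE (le_top (a := U))).op).hom.comp
      (Coh.toGlobal (X ↘ Spec (CommRingCat.of A)))) := by
  let ρ : A →+* Γ(X, U) :=
    (X.presheaf.map (homOfLE (le_top (a := U))).op).hom.comp (Coh.toGlobal (X ↘ Spec (CommRingCat.of A)))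
  have hp : IsPushout (CommRingCat.ofHom ρ) (CommRingCat.ofHom (algebraMap A (A ⧸ m))) (g.app U) _ :=
    isBCPushout_of_isPullback g h hU
  let β : A ⧸ m →+* Γ(X, U) ⧸ m.map ρ := Ideal.Quotient.lift m ((Ideal.Quotient.mk _).comp ρ) fun a ha =>
    Ideal.Quotient.eq_zero_iff_mem.2 (Ideal.mem_map_of_mem ρ ha)
  have h1 := hp.inl_desc (CommRingCat.ofHom (Ideal.Quotient.mk (m.map ρ))) (CommRingCat.ofHom β) (by
    refine CommRingCat.hom_ext (RingHom.ext fun a => ?_)
    show Ideal.Quotient.mk (m.map ρ) (ρ a) = β (Ideal.Quotient.mk m a)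
    rw [Ideal.Quotient.lift_mk]
    rfl)
  refine Ideal.Quotient.eq_zero_iff_mem.1 ?_
  have h2 := congr($h1 r)
  rw [ConcreteCategory.comp_apply, hr, map_zero] at h2
  exact h2.symm

/-- Lipman's theorem over a Noetherian ring. -/
theorem gl_and_H1_of_relNef (f : X ⟶ Spec (CommRingCat.of A)) [IsProper f]
    (h1 : Subsingleton (Coh.HH X (Coh.structureModule X) 1))
    (hfib : ∀ y : ↥(Spec (CommRingCat.of A)), topologicalKrullDim ↥(f.fiber y) ≤ 1)
    {L : X.Modules} (hL : PicF.IsInvertible L)
    (hnef : ∀ (K : Type u) [Field K] (i : A →+* K) (J : X.IdealSheafData)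
      (t : J.subscheme ⟶ Spec (CommRingCat.of K)),
      AlgebraicGeometry.IsIntegral J.subscheme → topologicalKrullDim ↥J.subscheme = 1 →
      t ≫ Spec.map (CommRingCat.ofHom i) = J.subschemeι ≫ f →
      0 ≤ @Curv2.deg K _ J.subscheme ⟨t⟩ ((Scheme.Modules.pullback J.subschemeι).obj L) 1) :
    Gl L ∧ Subsingleton (Coh.HH X L 1) := by
  classical
  let _ : X.Over (Spec (CommRingCat.of A)) := ⟨f⟩
  haveI : IsLocallyNoetherian X := LocallyOfFiniteType.isLocallyNoetherian f
  haveI : CompactSpace X := QuasiCompact.compactSpace_of_compactSpace f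
  have hv : NoH2 X := fun M hM => by
    haveI := hM
    exact H8Lim.subsingleton_HH_of_fibre_dim f 1 (fun y => by exact_mod_cast hfib y) M 2 (by omega)
  haveI hq : Coh.IsQCoh L := isQCoh_of_isInvertible hL
  let φ := baseHom A X
  have key : ∀ (m : Ideal A) [m.IsMaximal],
      (⊤ : Submodule A (HA φ L (⊤ : X.Opens) 1)) ≤ m • ⊤ ∧
      (Subsingleton (Coh.HH X L 1) → ∀ x : X, f x = (⟨m, inferInstance⟩ : PrimeSpectrum A) →
        ∃ s : Γ(L, ⊤), x ∈ glocus L s) := by
    intro m hm
    letI : Field (A ⧸ m) := Ideal.Quotient.field m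
    let k := A ⧸ m
    let σ := Spec.map (CommRingCat.ofHom (algebraMap A (A ⧸ m)))
    let Z := pullback f σ
    let g : Z ⟶ X := pullback.fst f σ
    let _ : Z.Over (Spec (CommRingCat.of (A ⧸ m))) := ⟨pullback.snd f σ⟩
    haveI : IsClosedImmersion σ := IsClosedImmersion.spec_of_surjective _ Ideal.Quotient.mk_surjective
    haveI : IsClosedImmersion g := inferInstanceAs (IsClosedImmersion (pullback.fst f σ))
    haveI : IsProper (Z ↘ Spec (CommRingCat.of (A ⧸ m))) := inferInstanceAs (IsProper (pullback.snd f σ))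
    haveI : IsLocallyNoetherian Z := LocallyOfFiniteType.isLocallyNoetherian g
    have hpb : IsPullback g (Z ↘ Spec (CommRingCat.of (A ⧸ m))) (X ↘ Spec (CommRingCat.of A)) σ :=
      IsPullback.of_hasPullback _ _
    let y : ↥(Spec (CommRingCat.of A)) := (⟨m, inferInstance⟩ : PrimeSpectrum A)
    have hσ : Set.range σ = {y} := by
      refine (range_comap_of_surjective _ (algebraMap A (A ⧸ m)) Ideal.Quotient.mk_surjective).trans ?_
      rw [show RingHom.ker (algebraMap A (A ⧸ m)) = m from Ideal.mk_ker]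
      ext p
      simp only [PrimeSpectrum.mem_zeroLocus, SetLike.coe_subset_coe, Set.mem_singleton_iff]
      exact ⟨fun h => PrimeSpectrum.ext (hm.eq_of_le p.isPrime.ne_top h).symm, fun h => h ▸ le_rfl⟩
    have hrange : Set.range g = f ⁻¹' {y} :=
      (Scheme.Pullback.range_fst f σ).trans (by rw [hσ])
    have hdimZ : topologicalKrullDim Z ≤ 1 := by
      refine le_trans (le_of_eq ?_) (hfib y)
      exact (((g.isClosedEmbedding.isEmbedding.toHomeomorph).trans (Homeomorph.setCongr hrange)).trans
        (f.fiberHomeo y).symm).isHomeomorph.topologicalKrullDim_eq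
    have hLZ : PicF.IsInvertible ((Scheme.Modules.pullback g).obj L) := PicLoc.isInvertible_pullback g hL
    have h1Z := subsingleton_H1_structure g hv h1
    have hglZ : Gl ((Scheme.Modules.pullback g).obj L) :=
      gl_of_subvarieties_field (A ⧸ m) hdimZ h1Z hLZ fun J hJ => by
        haveI := hJ
        let q := J.subschemeι ≫ g
        haveI hJ' : IsIntegral q.ker.subscheme := isIntegral_ker_subscheme q
        haveI : IsClosedImmersion q := inferInstanceAs (IsClosedImmersion (J.subschemeι ≫ g))
        haveI : IsIso q.toImage := inferInstance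
        let t : q.ker.subscheme ⟶ Spec (CommRingCat.of (A ⧸ m)) :=
          inv q.toImage ≫ J.subschemeι ≫ (Z ↘ Spec (CommRingCat.of (A ⧸ m)))
        let _ : q.ker.subscheme.Over (Spec (CommRingCat.of (A ⧸ m))) := ⟨t⟩
        haveI : IsProper (q.ker.subscheme ↘ Spec (CommRingCat.of (A ⧸ m))) :=
          inferInstanceAs (IsProper (inv q.toImage ≫ J.subschemeι ≫ (Z ↘ Spec (CommRingCat.of (A ⧸ m)))))
        have ht : t ≫ σ = q.ker.subschemeι ≫ f := by
          have e1 : inv q.toImage ≫ J.subschemeι ≫ g = q.ker.subschemeι :=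
            (IsIso.inv_comp_eq _).2 q.toImage_imageι.symm
          have e2 : (Z ↘ Spec (CommRingCat.of (A ⧸ m))) ≫ σ = g ≫ f := hpb.w.symm
          show (inv q.toImage ≫ J.subschemeι ≫ (Z ↘ Spec (CommRingCat.of (A ⧸ m)))) ≫ σ = _
          rw [← e1, Category.assoc, Category.assoc, Category.assoc, Category.assoc, e2]
        have hd : topologicalKrullDim q.ker.subscheme ≤ 1 :=
          (inv q.toImage ≫ J.subschemeι).isClosedEmbedding.isInducing.topologicalKrullDim_le.trans hdimZ
        have hgl' : Gl ((Scheme.Modules.pullback q.ker.subschemeι).obj L) :=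
          gl_of_deg_nonneg (A ⧸ m) hd (subsingleton_H1_structure q.ker.subschemeι hv h1)
            (PicLoc.isInvertible_pullback _ hL)
            fun hd1 => hnef (A ⧸ m) (algebraMap A (A ⧸ m)) q.ker t hJ' hd1 ht
        exact (hgl'.pullback q.toImage (PicLoc.isInvertible_pullback _ hL)).of_iso
          ((Scheme.Modules.pullbackComp q.toImage q.ker.subschemeι).app L ≪≫
            (Scheme.Modules.pullbackCongr q.toImage_imageι).app L ≪≫
            ((Scheme.Modules.pullbackComp J.subschemeι g).app L).symm)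
    have hLZ1 := hglZ.subsingleton_H1 (hv.closedImmersion g) hLZ h1Z
    haveI hqZ : Coh.IsQCoh ((Scheme.Modules.pullback g).obj L) := isQCoh_of_isInvertible hLZ
    haveI : Coh.IsQCoh ((Coh.push g).obj ((Scheme.Modules.pullback g).obj L)) := isQCoh_push g _
    let S : Finset A := (IsNoetherian.noetherian m).choose
    have hS : Ideal.span (S : Set A) = m := (IsNoetherian.noetherian m).choose_spec
    have hzero : ∀ a ∈ S, Formal.smulMod A L a ≫ clUnit g L = 0 := fun a ha =>
      Scheme.Modules.hom_ext _ _ fun U => ConcreteCategory.hom_ext _ _ fun (x : Γ(L, U)) => by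
        show pullSec g ((Formal.smulMod A L a).app U x) = 0
        rw [smulMod_app, pullSec_smul]
        have h0 : g.app U (X.presheaf.map (homOfLE (le_top (a := U))).op (baseHom A X a)) = 0 := by
          have h := appTop_toGlobal g hpb a
          have ha' : algebraMap A (A ⧸ m) a = 0 :=
            Ideal.Quotient.eq_zero_iff_mem.2 (hS.le (Ideal.subset_span ha))
          rw [ha', map_zero] at h
          refine (ConcreteCategory.congr_hom (g.naturality (homOfLE (le_top (a := U))).op) _).trans ?_
          exact (congrArg (Z.presheaf.map _) h).trans (map_zero (Z.presheaf.map _).hom)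
        rw [h0, zero_smul]
    let φS : {a // a ∈ S} → (L ⟶ kernel (clUnit g L)) := fun a => kernel.lift _ _ (hzero a.1 a.2)
    haveI hK : Coh.IsQCoh (kernel (clUnit g L)) := isQCoh_kernel _
    have hjoint : ∀ {Q : X.Modules} (π : kernel (clUnit g L) ⟶ Q),
        (∀ a ∈ S.attach, φS a ≫ π = 0) → π = 0 := fun {Q} π hπ => by
      refine Scheme.Modules.hom_ext _ _ fun W => ConcreteCategory.hom_ext _ _ fun w => ?_
      show π.app W w = 0
      refine sec_ext Q _ _ fun z hz => ?_
      obtain ⟨V, hzV, g₀, hg₀⟩ := exists_isGen hL z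
      obtain ⟨U, hU, hzU, hUle⟩ := exists_isAffineOpen_mem_and_subset (x := z) (U := W ⊓ V) ⟨hz, hzV⟩
      have hUW : U ≤ W := fun _ h => (hUle h).1
      have hUV : U ≤ V := fun _ h => (hUle h).2
      refine ⟨U, hUW, hzU, ?_⟩
      rw [map_zero, ← app_resM]
      let g' := resM L hUV g₀
      have hg' : IsGen L U g' := hg₀.restrict hUV
      let w' : Γ(L, U) := (kernel.ι (clUnit g L)).app U (resM _ hUW w)
      obtain ⟨r, hr⟩ := (hg' U le_rfl).2 w'
      beta_reduce at hr
      rw [resM_self] at hr
      have h0 : pullSec g w' = 0 := kernel_ι_app_zero (clUnit g L) U _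
      rw [← hr, pullSec_smul] at h0
      have hr0 : g.app U r = 0 := by
        refine ((isGen_pullSec g hg' hL) _ le_rfl).1 ?_
        show g.app U r • resM _ le_rfl _ = (0 : Γ(Z, _)) • resM _ le_rfl _
        rw [resM_self, h0, zero_smul]
      let ρ : A →+* Γ(X, U) := (X.presheaf.map (homOfLE (le_top (a := U))).op).hom.comp (baseHom A X)
      have hrm : r ∈ m.map ρ := mem_map_of_app_eq_zero m g hpb hU hr0
      rw [← hS, Ideal.map_span, show ρ '' (S : Set A) = Set.range (fun a : {a // a ∈ S} => ρ a.1) from by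
        rw [Set.image_eq_range]; rfl, Ideal.mem_span_range_iff_exists_fun] at hrm
      obtain ⟨c, hc⟩ := hrm
      have hw : resM _ hUW w = ∑ a : {a // a ∈ S}, c a • (φS a).app U g' := by
        refine app_injective_of_mono (kernel.ι (clUnit g L)) U ?_
        refine hr.symm.trans ?_
        rw [map_sum, ← hc, Finset.sum_smul]
        refine Finset.sum_congr rfl fun a _ => ?_
        rw [Scheme.Modules.Hom.app_smul, mul_smul]
        refine congrArg (c a • ·) ?_
        show ρ a.1 • g' = ((φS a ≫ kernel.ι _).app U) g'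
        rw [kernel.lift_ι]
        rfl
      rw [hw, map_sum]
      refine Finset.sum_eq_zero fun a _ => ?_
      rw [Scheme.Modules.Hom.app_smul]
      have h2 : (φS a ≫ π).app U g' = 0 :=
        congrArg (fun θ : L ⟶ Q => θ.app U g') (hπ a (Finset.mem_attach _ _))
      exact (congrArg (c a • ·) h2).trans (smul_zero _)
    refine ⟨fun x _ => ?_, fun hsub x hx => ?_⟩
    · let Sq : ShortComplex X.Modules :=
        ShortComplex.mk (kernel.ι (clUnit g L)) (clUnit g L) (kernel.condition _)
      haveI : Epi (clUnit g L) := epi_clUnit g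
      have hSq : Sq.ShortExact := { exact := ShortComplex.exact_kernel (clUnit g L) }
      haveI : Subsingleton (HA φ Sq.X₃ (⊤ : X.Opens) 1) :=
        (HHTopEquiv _ 1).symm.toEquiv.subsingleton_congr.2
          ((HHAffinePushEquiv g _ 1).toEquiv.subsingleton_congr.1 hLZ1)
      obtain ⟨z, rfl⟩ := (exact_postA φ hSq ⊤ 1 x).1 (Subsingleton.elim _ _)
      have hz := iSup_range_postA_eq_top φ hv hq S.attach hK φS hjoint (Submodule.mem_top (x := z))
      have hle : (⨆ a ∈ S.attach, LinearMap.range (postA φ (φS a) (⊤ : X.Opens) 1)) ≤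
          (m • ⊤ : Submodule A (HA φ L (⊤ : X.Opens) 1)).comap (postA φ (kernel.ι (clUnit g L)) ⊤ 1) := by
        refine iSup₂_le fun a _ => ?_
        rintro _ ⟨v, rfl⟩
        rw [Submodule.mem_comap]
        have e : postA φ (kernel.ι (clUnit g L)) ⊤ 1 (postA φ (φS a) ⊤ 1 v) = a.1 • v :=
          ((postHM_comp (φS a) (kernel.ι (clUnit g L)) 1 (⊤ : X.Opens) v).symm.trans
            (by rw [kernel.lift_ι]; rfl)).trans (postA_smulMod L a.1 1 v)
        rw [e]
        exact Submodule.smul_mem_smul (hS.le (Ideal.subset_span a.2)) Submodule.mem_top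
      exact hle hz
    · have hK1 := subsingleton_H1_of_jointlyEpi hv hq hsub S.attach hK φS hjoint
      obtain ⟨z, hz⟩ := hrange.ge (show x ∈ f ⁻¹' {y} from hx)
      have := exists_mem_glocus_of_pullback g hL (surjective_pullSec_of_H1 g hK1) hglZ z
      rwa [hz] at this
  have hLc : Coh.IsCoh L := PicLib.isCoh_of_isInvertible hL
  haveI : Module.Finite A (HA φ L (⊤ : X.Opens) 1) := finCoh_of_isProper f L hLc 1
  have hsub : Subsingleton (Coh.HH X L 1) := by
    refine (HHA (A := A) L 1).toEquiv.subsingleton_congr.2 (subsingleton_of_forall_eq 0 fun x => ?_)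
    have hann : Module.annihilator A (HA φ L (⊤ : X.Opens) 1) = ⊤ := by
      by_contra hne
      obtain ⟨m, hm, hle⟩ := Ideal.exists_le_maximal _ hne
      haveI := hm
      obtain ⟨r, hr, hr'⟩ := Submodule.exists_sub_one_mem_and_smul_eq_zero_of_fg_of_le_smul m ⊤
        Module.Finite.fg_top (key m).1
      have hrm : r ∈ m := hle (Module.mem_annihilator.2 fun n => hr' n Submodule.mem_top)
      exact hm.ne_top ((Ideal.eq_top_iff_one _).2 (by simpa using Ideal.sub_mem _ hrm hr))
    have h2 := Module.mem_annihilator.1 (hann ▸ Submodule.mem_top : (1 : A) ∈ _) x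
    rwa [one_smul] at h2
  refine ⟨Gl.of_closedPoints fun P hP => ?_, hsub⟩
  have hy : IsClosed ({f P} : Set ↥(Spec (CommRingCat.of A))) := by
    have := f.isClosedMap _ hP
    rwa [Set.image_singleton] at this
  haveI := (PrimeSpectrum.isClosed_singleton_iff_isMaximal _).1 hy
  exact (key (f P).asIdeal).2 hsub P rfl

end Groth.Agent.Lipman24
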