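import Groth.Agent.Clifford24.Lipman.Relative
import Groth.Agent.Clifford24.Lipman.Castelnuovo
import Groth.Agent.PnEmb.Ample
import Groth.Agent.MorProj.QuasiAff
import Groth.Agent.S1530
import Groth.Prelude.Def_LCI2

/-!
# Ample implies very ample, for proper schemes with fibres of dimension one and without `H¹(O)`
-/

set_option autoImplicit false
set_option linter.style.haveILetI false
set_option backward.isDefEq.respectTransparency.types false

universe u

open CategoryTheory CategoryTheory.Limits AlgebraicGeometry Opposite TopologicalSpace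
open Groth.Agent.Coherent Groth.Agent.PicLib Groth.Agent.AmpleLib Groth.Agent.EulerLib

namespace Groth.Agent.Lipman24

variable {X : Scheme.{u}}

/-- An ample module has positive degree on integral curves. -/
theorem deg_pos_of_isAmple (k : Type u) [Field k] {C : Scheme.{u}} [IsIntegral C] (ι : C ⟶ X)
    [IsClosedImmersion ι] [CompactSpace C] [C.Over (Spec (CommRingCat.of k))]
    [IsProper (C ↘ Spec (CommRingCat.of k))] (hd : topologicalKrullDim C = 1) {L : X.Modules}
    (hA : CohB1.IsAmple L) : 0 < Curv2.deg k C ((Scheme.Modules.pullback ι).obj L) 1 :=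
  (S1530.result k C hd _ (PicLoc.isInvertible_pullback ι hA.1)).1
    (isAmple_pullback_of_isEmbedding ι ι.isClosedEmbedding.isEmbedding hA)

theorem isAmple_of_isRelAmple_affine {S : Scheme.{u}} [IsAffine S] {f : X ⟶ S} {L : X.Modules}
    (h : RelAmple.IsRelAmple f L) : CohB1.IsAmple L := by
  let ι₀ := (f ⁻¹ᵁ (⊤ : S.Opens)).ι
  haveI : IsIso ι₀ := inferInstanceAs (IsIso X.topIso.hom)
  have h' : CohB1.IsAmple ((Scheme.Modules.pullback ι₀).obj L) :=
    ((isRelAmple_iff f).1 h).2 ⟨⊤, isAffineOpen_top S⟩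
  haveI : CompactSpace X := by
    haveI := h.1
    exact QuasiCompact.compactSpace_of_compactSpace f
  refine isAmple_of_iso ((Scheme.Modules.pullbackComp (inv ι₀) ι₀).app L ≪≫
    (Scheme.Modules.pullbackCongr (IsIso.inv_hom_id ι₀)).app L ≪≫ (Scheme.Modules.pullbackId X).app L) ?_
  exact isAmple_pullback_of_isEmbedding (inv ι₀) (inv ι₀).isClosedEmbedding.isEmbedding h'

theorem exists_sum_tmul_pow [CompactSpace X] (hv : NoH2 X) {L : X.Modules} (hL : PicF.IsInvertible L)
    (hg : Gl L) (n : ℕ) (h : Subsingleton (Coh.HH X (CohB1.tensorPow L (n - 1)) 1))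
    (z : Γ(CohB1.tensorPow L (n + 1), ⊤)) :
    ∃ (m : ℕ) (b : Fin m → Γ(L, ⊤)) (w : Fin m → Γ(CohB1.tensorPow L n, ⊤)), z = ∑ i, tmul (w i) (b i) := by
  cases n with
  | zero =>
    let b := (unitTensorIso L).hom.app ⊤ z
    refine ⟨1, fun _ => b, fun _ => oneSec (⊤ : X.Opens), ?_⟩
    rw [Fin.sum_univ_one]
    have h1 : (unitTensorIso L).hom.app ⊤ (tmul (oneSec (⊤ : X.Opens)) b) = b :=
      (Bilin.desc_tmul _ _ _ _).trans (one_smul Γ(X, ⊤) b)
    exact ((ConcreteCategory.bijective_of_isIso ((unitTensorIso L).hom.app ⊤)).1 h1).symm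
  | succ j =>
    exact hg.exists_sum_tmul hv hL (isQCoh_of_isInvertible (isInvertible_tensorPow hL j)) h z

variable {A : Type u} [CommRing A] [IsNoetherianRing A]

/-- Ample, globally generated and with `H¹` of all powers zero: very ample. -/
theorem isRelVeryAmplePn_of_gl (f : X ⟶ Spec (CommRingCat.of A)) [IsProper f] (hv : NoH2 X)
    {L : X.Modules} (hA : CohB1.IsAmple L) (hg : Gl L)
    (h : ∀ n, Subsingleton (Coh.HH X (CohB1.tensorPow L n) 1)) :
    RelAmple.IsRelVeryAmplePn f L := by
  classical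
  have hL : PicF.IsInvertible L := hA.1
  let _ : X.Over (Spec (CommRingCat.of A)) := ⟨f⟩
  haveI : CompactSpace X := QuasiCompact.compactSpace_of_compactSpace f
  haveI : QuasiSeparatedSpace X := quasiSeparatedSpace_of_quasiSeparated f
  let φ := baseHom A X
  haveI : Module.Finite A (GA φ L) := by
    haveI : Module.Finite A (HA φ L (⊤ : X.Opens) 0) :=
      finCoh_of_isProper f L (PicLib.isCoh_of_isInvertible hL) 0
    exact Module.Finite.equiv (secA φ L)
  obtain ⟨T, hT⟩ := Module.Finite.fg_top (R := A) (M := GA φ L)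
  obtain ⟨C, hC⟩ := hg.exists_finset
  let T' : Finset Γ(L, ⊤) := T.image fun x => (show Γ(L, ⊤) from x)
  let S : Finset Γ(L, ⊤) := T' ∪ C
  let σ : Fin (S.card + 1) → Γ(L, ⊤) := Fin.cons 0 fun i => (S.equivFin.symm i).1
  have hσ : ∀ s ∈ S, ∃ i, σ i = s := fun s hs => ⟨(S.equivFin ⟨s, hs⟩).succ, by simp [σ]⟩
  refine PnEmb.isRelVeryAmplePn_of_sections f hL σ Set.univ (fun x => ?_)
    (fun j _ => MorProj.isAffineOpen_glocus_of_universallyClosed f hA (σ j)) fun j _ => ?_
  · obtain ⟨s, hs, hxs⟩ := hC x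
    obtain ⟨i, rfl⟩ := hσ s (Finset.mem_union_right _ hs)
    exact ⟨i, trivial, hxs⟩
  let U := glocus L (σ j)
  let g₀ : Γ(L, U) := resM L le_top (σ j)
  have hg₀ : IsGen L U g₀ := isGen_glocus (σ j)
  let H : Subring Γ(X, U) := Subring.closure (Set.range (f.appLE ⊤ U le_top) ∪
    Set.range fun k => hg₀.coef le_rfl (resM L le_top (σ k)))
  show H = ⊤
  have hbase : ∀ a : A, (X.presheaf.map (homOfLE (le_top (a := U))).op (φ a) : Γ(X, U)) ∈ H := fun a =>
    Subring.subset_closure (Or.inl ⟨(Scheme.ΓSpecIso (CommRingCat.of A)).inv a, by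
      rw [Scheme.Hom.appLE, ConcreteCategory.comp_apply]
      rfl⟩)
  have hone : ∀ z : GA φ L, ∃ c ∈ H, resM L (le_top : U ≤ ⊤) (show Γ(L, ⊤) from z) = c • g₀ := fun z => by
    have hz : z ∈ Submodule.span A (T : Set (GA φ L)) := hT.ge Submodule.mem_top
    induction hz using Submodule.span_induction with
    | mem x hx =>
      obtain ⟨i, hi⟩ := hσ (show Γ(L, ⊤) from x) (Finset.mem_union_left _ (Finset.mem_image_of_mem _ hx))
      refine ⟨_, Subring.subset_closure (Or.inr ⟨i, rfl⟩), ?_⟩
      have := hg₀.coef_spec le_rfl (resM L le_top (σ i))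
      rw [resM_self] at this
      rw [this, hi]
    | zero => exact ⟨0, zero_mem _, by rw [zero_smul]; exact map_zero _⟩
    | add x y _ _ hx hy =>
      obtain ⟨c, hc, ec⟩ := hx
      obtain ⟨d, hd, ed⟩ := hy
      refine ⟨c + d, add_mem hc hd, ?_⟩
      rw [add_smul, ← ec, ← ed]
      exact map_add _ _ _
    | smul a x _ hx =>
      obtain ⟨c, hc, ec⟩ := hx
      refine ⟨_, mul_mem (hbase a) hc, ?_⟩
      rw [mul_smul, ← ec]
      exact resM_smul L (le_top : U ≤ ⊤) (φ a) (show Γ(L, ⊤) from x)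
  have hglob : ∀ r : Γ(X, ⊤), (X.presheaf.map (homOfLE (le_top (a := U))).op r : Γ(X, U)) ∈ H := fun r => by
    obtain ⟨c, hc, e⟩ := hone (show GA φ L from r • σ j)
    have e' : (X.presheaf.map (homOfLE (le_top (a := U))).op r : Γ(X, U)) • g₀ = c • g₀ :=
      (resM_smul L (le_top : U ≤ ⊤) r (σ j)).symm.trans e
    have := (hg₀ U le_rfl).1 (a₁ := (X.presheaf.map (homOfLE (le_top (a := U))).op r : Γ(X, U))) (a₂ := c)
      (by simpa only [resM_self] using e')
    exact this ▸ hc
  have hpow : ∀ (n : ℕ) (z : Γ(CohB1.tensorPow L n, ⊤)),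
      ∃ c ∈ H, resM (CohB1.tensorPow L n) (le_top : U ≤ ⊤) z = c • powSec g₀ n := by
    intro n
    induction n with
    | zero =>
      intro z
      refine ⟨_, hglob (show Γ(X, ⊤) from z), ?_⟩
      exact (mul_one (X.presheaf.map (homOfLE (le_top (a := U))).op (show Γ(X, ⊤) from z) : Γ(X, U))).symm
    | succ n ih =>
      intro z
      obtain ⟨m, b, w, rfl⟩ := exists_sum_tmul_pow hv hL hg n (h (n - 1)) z
      choose c hc ec using fun i => ih (w i)
      choose d hd ed using fun i => hone (show GA φ L from b i)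
      refine ⟨∑ i, c i * d i, sum_mem fun i _ => mul_mem (hc i) (hd i), ?_⟩
      refine (map_sum (resM (CohB1.tensorPow L (n + 1)) (le_top : U ≤ ⊤)) _ _).trans ?_
      refine Eq.trans ?_ (Finset.sum_smul).symm
      refine Finset.sum_congr rfl fun i _ => ?_
      refine (resM_tmul (le_top : U ≤ ⊤) (w i) (b i)).trans ?_
      rw [ec i, show resM L (le_top : U ≤ ⊤) (b i) = d i • g₀ from ed i]
      exact tmul_smul_smul _ _ _ _
  refine eq_top_iff.2 fun c _ => ?_
  haveI : Coh.IsQCoh (Coh.structureModule X) := isQCoh_structureModule (X := X)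
  obtain ⟨n, t, ht⟩ := exists_extend (Coh.structureModule X) (σ j) hL (show Γ(Coh.structureModule X, U) from c)
  obtain ⟨d, hd, ed⟩ := hpow n ((unitTensorIso _).hom.app ⊤ t)
  have e : resM (CohB1.tensorPow L n) (le_top : U ≤ ⊤) ((unitTensorIso _).hom.app ⊤ t) = c • powSec g₀ n := by
    rw [← app_resM, ht]
    exact Bilin.desc_tmul _ _ _ _
  have := ((isGen_powSec hg₀ n) U le_rfl).1 (a₁ := c) (a₂ := d) (by simpa only [resM_self] using e.symm.trans ed)
  exact this ▸ hd

/-- On a proper `A`-scheme with fibres of dimension one and `H¹(O) = 0`, ample implies very ample. -/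
theorem isRelVeryAmplePn_of_ample (f : X ⟶ Spec (CommRingCat.of A)) [IsProper f]
    (h1 : Subsingleton (Coh.HH X (Coh.structureModule X) 1))
    (hfib : ∀ y : ↥(Spec (CommRingCat.of A)), topologicalKrullDim ↥(f.fiber y) ≤ 1)
    {L : X.Modules} (hA : CohB1.IsAmple L) :
    RelAmple.IsRelVeryAmplePn f L := by
  haveI : IsLocallyNoetherian X := LocallyOfFiniteType.isLocallyNoetherian f
  haveI : CompactSpace X := QuasiCompact.compactSpace_of_compactSpace f
  obtain ⟨hgl, -⟩ := gl_and_H1_of_relNef f h1 hfib hA.1 fun K _ i J t hJ hd ht => by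
    haveI := hJ
    let _ : J.subscheme.Over (Spec (CommRingCat.of K)) := ⟨t⟩
    haveI : IsProper (J.subscheme ↘ Spec (CommRingCat.of K)) := by
      haveI : IsProper (t ≫ Spec.map (CommRingCat.ofHom i)) := by
        rw [ht]; infer_instance
      exact IsProper.of_comp t (Spec.map (CommRingCat.ofHom i))
    haveI : CompactSpace J.subscheme := QuasiCompact.compactSpace_of_compactSpace J.subschemeι
    exact (deg_pos_of_isAmple K J.subschemeι hd hA).le
  have hv : NoH2 X := fun M hM => by
    haveI := hM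
    exact H8Lim.subsingleton_HH_of_fibre_dim f 1 (fun y => by exact_mod_cast hfib y) M 2 (by omega)
  exact isRelVeryAmplePn_of_gl f hv hA hgl fun n =>
    hgl.subsingleton_H1_pow hv hA.1 (m := 0) h1 n n.zero_le

end Groth.Agent.Lipman24
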